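import Cfsg.Agent.Lib.FixedFormula.Lift

/-!
The fixed point formula for a Frobenius group acting coprimely on a solvable group.

* `FrobData` : an abstract Frobenius decomposition `G = U E`
* `fixBy` : fixed points of a subgroup
* `elementary_formula`, `formula`
-/
set_option autoImplicit false

namespace Cfsg.Agent.FixedFormula

open Matrix
open scoped IsMulCommutative

variable {G : Type*} [Group G]

/-- `G = U E`, `U` normal, `E` acting fixed point freely. -/
structure FrobData (U E : Subgroup G) : Prop where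
  normal : U.Normal
  disj : U ⊓ E = ⊥
  sup : U ⊔ E = ⊤
  fpf : ∀ e ∈ E, e ≠ 1 → ∀ u ∈ U, e * u = u * e → u = 1

theorem FrobData.card [Finite G] {U E : Subgroup G} (h : FrobData U E) :
    Nat.card G = Nat.card U * Nat.card E := by
  haveI := h.normal
  have : Subgroup.IsComplement' U E := Subgroup.isComplement'_of_disjoint_and_mul_eq_univ
    (disjoint_iff.mpr h.disj) (by rw [← Subgroup.normal_mul, h.sup]; rfl)
  exact this.card_mul.symm

open Classical in
/-- The decomposition of a sum of a class function along the Frobenius partition. -/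
theorem FrobData.sum_eq [Fintype G] {U E : Subgroup G} (h : FrobData U E) {R : Type*} [CommRing R]
    (T : G → R) (hT : ∀ x y, T (y * x * y⁻¹) = T x) :
    ∑ g : G, T g = ∑ u : U, T u + (Nat.card U : R) * (∑ x : E, T x - T 1) := by
  haveI := h.normal
  let f : U × {x : E // x ≠ 1} → {g : G // g ∉ U} := fun q =>
    ⟨(q.1 : G) * (q.2.1 : G) * (q.1 : G)⁻¹, fun hm => q.2.2 (Subtype.ext (by
      have := h.normal.conj_mem _ hm (q.1 : G)⁻¹
      simp only [inv_inv, mul_assoc, inv_mul_cancel_left, inv_mul_cancel, mul_one] at this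
      exact Subgroup.mem_bot.mp (h.disj.le (Subgroup.mem_inf.mpr ⟨this, q.2.1.2⟩))))⟩
  have hinj : Function.Injective f := by
    rintro ⟨u, x, hx⟩ ⟨v, y, hy⟩ he
    have he' : (u : G) * x * (u : G)⁻¹ = (v : G) * y * (v : G)⁻¹ := congrArg Subtype.val he
    set w := (v : G)⁻¹ * u with hw
    have hwU : w ∈ U := mul_mem (inv_mem v.2) u.2
    have h1 : w * x * w⁻¹ = y := by
      calc w * x * w⁻¹ = (v : G)⁻¹ * ((u : G) * x * (u : G)⁻¹) * v := by rw [hw]; group
        _ = y := by rw [he']; group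
    have hxy : (x : G) = y := by
      have hm : (y : G) * (x : G)⁻¹ ∈ U ⊓ E := by
        refine Subgroup.mem_inf.mpr ⟨?_, mul_mem y.2 (inv_mem x.2)⟩
        rw [← h1, show w * x * w⁻¹ * (x : G)⁻¹ = w * ((x : G) * w⁻¹ * (x : G)⁻¹) by group]
        exact mul_mem hwU (h.normal.conj_mem _ (inv_mem hwU) _)
      rw [h.disj, Subgroup.mem_bot, mul_inv_eq_one] at hm
      exact hm.symm
    have hx1 : (x : G) ≠ 1 := fun e => hx (Subtype.ext e)
    have hw1 : w = 1 := h.fpf x x.2 hx1 w hwU (by
      have := h1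
      rw [← hxy, mul_inv_eq_iff_eq_mul] at this
      exact this.symm)
    have huv : u = v := Subtype.ext (by rw [hw, inv_mul_eq_one] at hw1; exact hw1.symm)
    exact Prod.ext huv (Subtype.ext (Subtype.ext hxy))
  have hcard : Fintype.card (U × {x : E // x ≠ 1}) = Fintype.card {g : G // g ∉ U} := by
    have hG := h.card
    simp only [Nat.card_eq_fintype_card] at hG
    rw [Fintype.card_prod, Fintype.card_subtype_compl, Fintype.card_subtype_compl,
      Fintype.card_subtype_eq]
    rw [hG, Nat.mul_sub, mul_one]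
  have hsum : ∑ g : {g : G // g ∉ U}, T g = (Nat.card U : R) * ∑ x : {x : E // x ≠ 1}, T (x.1 : G) := by
    rw [← Fintype.sum_bijective f ((Fintype.bijective_iff_injective_and_card f).mpr ⟨hinj, hcard⟩)
      (fun q => T (q.2.1 : G)) (fun g => T g) (fun q => (hT _ _).symm), Fintype.sum_prod_type]
    simp only
    rw [Finset.sum_const, Finset.card_univ, nsmul_eq_mul, Nat.card_eq_fintype_card]
  have hE1 : ∑ x : E, T x = T 1 + ∑ x : {x : E // x ≠ 1}, T (x.1 : G) := by
    rw [← Finset.add_sum_erase _ _ (Finset.mem_univ (1 : E)), OneMemClass.coe_one]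
    congr 1
    exact Finset.sum_subtype _ (fun x => by simp) (fun x : E => T x)
  rw [← Fintype.sum_subtype_add_sum_subtype (fun g => g ∈ U) T, hsum, hE1, add_sub_cancel_left]

variable {A : Type*} [Group A]

/-- Fixed points of the subgroup `K`. -/
def fixBy (φ : G →* MulAut A) (K : Subgroup G) : Subgroup A where
  carrier := {a | ∀ k ∈ K, φ k a = a}
  one_mem' := fun k _ => map_one _
  mul_mem' := fun ha hb k hk => by rw [map_mul, ha k hk, hb k hk]
  inv_mem' := fun ha k hk => by rw [map_inv, ha k hk]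

theorem mem_fixBy {φ : G →* MulAut A} {K : Subgroup G} {a : A} :
    a ∈ fixBy φ K ↔ ∀ k ∈ K, φ k a = a := Iff.rfl

theorem elementary_formula [Finite G] {U E : Subgroup G} (h : FrobData U E) {A : Type*} [CommGroup A]
    [Finite A] {p : ℕ} [hp : Fact p.Prime] (hA : ∀ a : A, a ^ p = 1) (hG : (Nat.card G).Coprime p)
    (φ : G →* MulAut A) :
    Nat.card (fixBy φ ⊤) ^ Nat.card E * Nat.card A =
      Nat.card (fixBy φ E) ^ Nat.card E * Nat.card (fixBy φ U) := by
  classical
  haveI := Fintype.ofFinite G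
  letI : Module (ZMod p) (Additive A) := AddCommGroup.zmodModule (n := p) fun a => hA a.toMul
  let L : G →* (Additive A →ₗ[ZMod p] Additive A) :=
    { toFun := fun g => ((φ g).toMonoidHom.toAdditive).toZModLinearMap p
      map_one' := LinearMap.ext fun a => by
        show Additive.ofMul (φ 1 a.toMul) = a
        rw [map_one]; rfl
      map_mul' := fun g h => LinearMap.ext fun a => by
        show Additive.ofMul (φ (g * h) a.toMul) = Additive.ofMul (φ g (φ h a.toMul))
        rw [map_mul]; rfl }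
  set n := Module.finrank (ZMod p) (Additive A)
  let b := Module.finBasis (ZMod p) (Additive A)
  let ρ : G →* (Matrix (Fin n) (Fin n) (ZMod p))ˣ :=
    (Units.map ((LinearMap.toMatrixAlgEquiv b).toAlgHom.toRingHom.toMonoidHom)).comp L.toHomUnits
  have hρ : ∀ g (a : Additive A), (ρ g : Matrix (Fin n) (Fin n) (ZMod p)) *ᵥ b.repr a = b.repr (L g a) :=
    fun g a => LinearMap.toMatrix_mulVec_repr b b (L g) a
  have hfix : ∀ K : Subgroup G, Nat.card (fixBy φ K) =
      Nat.card {v : Fin n → ZMod p // ∀ k ∈ K, (ρ k : Matrix (Fin n) (Fin n) (ZMod p)) *ᵥ v = v} := fun K => by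
    refine Nat.card_congr (Equiv.subtypeEquiv (Additive.ofMul.trans b.equivFun.toEquiv) fun a => ?_)
    refine forall₂_congr fun k _ => ?_
    show φ k a = a ↔ (ρ k : Matrix (Fin n) (Fin n) (ZMod p)) *ᵥ b.repr (Additive.ofMul a) = b.repr (Additive.ofMul a)
    rw [hρ]
    refine ⟨fun e => ?_, fun e => ?_⟩
    · rw [show L k (Additive.ofMul a) = Additive.ofMul a from congrArg Additive.ofMul e]
    · exact Additive.ofMul.injective (b.repr.injective (DFunLike.coe_injective e))
  have hcard : Nat.card A = p ^ n := by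
    rw [Nat.card_congr (Additive.ofMul (α := A)), Module.natCard_eq_pow_finrank (K := ZMod p), Nat.card_zmod]
  set N := (Nat.card E + 1) * n + 1
  have hN : N ≠ 0 := Nat.succ_ne_zero _
  obtain ⟨T, hTc, hT1, hT⟩ := exists_trace_fun hN hG ρ
  obtain ⟨a, ha, hac, haT⟩ := hT ⊤
  obtain ⟨c, hc, hcc, hcT⟩ := hT E
  obtain ⟨u, hu, huc, huT⟩ := hT U
  have hUu : IsUnit ((Nat.card U : ℕ) : ZMod (p ^ N)) := (ZMod.isUnit_iff_coprime _ _).mpr
    ((hG.coprime_dvd_left (Subgroup.card_subgroup_dvd_card U)).pow_right N)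
  have key : ((Nat.card E * a + n : ℕ) : ZMod (p ^ N)) = ((u + Nat.card E * c : ℕ) : ZMod (p ^ N)) := by
    apply hUu.mul_left_cancel
    have hsum := h.sum_eq T hTc
    rw [huT, hcT, hT1] at hsum
    have htop : ∑ g : G, T g = (Nat.card G : ZMod (p ^ N)) * a := by
      rw [← Nat.card_congr Subgroup.topEquiv.toEquiv, ← haT]
      exact (Fintype.sum_equiv Subgroup.topEquiv.toEquiv _ _ fun k => rfl).symm
    rw [htop, h.card] at hsum
    push_cast at hsum ⊢
    linear_combination hsum
  have hlt : ∀ x, x ≤ (Nat.card E + 1) * n → x < p ^ N := fun x hx => lt_of_lt_of_le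
    (Nat.lt_two_pow_self.trans_le' (show x ≤ (Nat.card E + 1) * n from hx))
    ((Nat.pow_le_pow_left hp.out.two_le _).trans (Nat.pow_le_pow_right hp.out.pos (Nat.le_succ _)))
  have heq : Nat.card E * a + n = u + Nat.card E * c := by
    have h1 := congrArg ZMod.val key
    rwa [ZMod.val_natCast, ZMod.val_natCast, Nat.mod_eq_of_lt (hlt _ (by nlinarith)),
      Nat.mod_eq_of_lt (hlt _ (by nlinarith))] at h1
  rw [hfix, hfix, hfix, hac, hcc, huc, hcard, ← pow_mul, ← pow_mul, ← pow_add, ← pow_add]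
  congr 1
  linear_combination heq

/-- The action induced on an invariant subgroup. -/
def restrictAct (φ : G →* MulAut A) (N : Subgroup A) (hN : ∀ g, ∀ a ∈ N, φ g a ∈ N) : G →* MulAut N where
  toFun g :=
    { toFun := fun a => ⟨φ g a, hN g a a.2⟩
      invFun := fun a => ⟨φ g⁻¹ a, hN g⁻¹ a a.2⟩
      left_inv := fun a => Subtype.ext (by show φ g⁻¹ (φ g (a : A)) = a; rw [map_inv]; exact (φ g).symm_apply_apply _)
      right_inv := fun a => Subtype.ext (by show φ g (φ g⁻¹ (a : A)) = a; rw [map_inv]; exact (φ g).apply_symm_apply _)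
      map_mul' := fun a b => Subtype.ext (map_mul _ _ _) }
  map_one' := MulEquiv.ext fun a => Subtype.ext (by simp)
  map_mul' g h := MulEquiv.ext fun a => Subtype.ext (by simp)

/-- The action induced on a quotient. -/
def quotAct (φ : G →* MulAut A) (N : Subgroup A) [N.Normal] (hN : ∀ g, ∀ a ∈ N, φ g a ∈ N) :
    G →* MulAut (A ⧸ N) where
  toFun g := QuotientGroup.congr N N (φ g) (le_antisymm (by rintro _ ⟨a, ha, rfl⟩; exact hN g a ha)
    fun a ha => ⟨φ g⁻¹ a, hN g⁻¹ a ha, by show φ g (φ g⁻¹ a) = a; rw [map_inv]; exact (φ g).apply_symm_apply _⟩)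
  map_one' := MulEquiv.ext fun q => QuotientGroup.induction_on q fun a => by simp
  map_mul' g h := MulEquiv.ext fun q => QuotientGroup.induction_on q fun a => by simp

theorem quotAct_mk (φ : G →* MulAut A) (N : Subgroup A) [N.Normal] (hN : ∀ g, ∀ a ∈ N, φ g a ∈ N)
    (g : G) (a : A) : quotAct φ N hN g (QuotientGroup.mk a) = QuotientGroup.mk (φ g a) := rfl

/-- Fixed points lift modulo an abelian invariant subgroup of coprime order. -/
theorem card_fixBy_quot [Finite G] [Finite A] (φ : G →* MulAut A) (N : Subgroup A) [N.Normal]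
    [IsMulCommutative N] (hN : ∀ g, ∀ a ∈ N, φ g a ∈ N) (K : Subgroup G)
    (hcop : (Nat.card N).Coprime (Nat.card K)) :
    Nat.card (fixBy φ K) = Nat.card (fixBy (restrictAct φ N hN) K) * Nat.card (fixBy (quotAct φ N hN) K) := by
  classical
  haveI := Fintype.ofFinite K
  let f : fixBy φ K →* fixBy (quotAct φ N hN) K :=
    MonoidHom.codRestrict ((QuotientGroup.mk' N).comp (fixBy φ K).subtype) _ fun a k hk => by
      show quotAct φ N hN k (QuotientGroup.mk (a : A)) = _
      rw [quotAct_mk, a.2 k hk]; rfl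
  have hsurj : Function.Surjective f := by
    rintro ⟨q, hq⟩
    obtain ⟨a, rfl⟩ := QuotientGroup.mk_surjective q
    have hmem : ∀ k : K, a⁻¹ * φ k a ∈ N := fun k => QuotientGroup.eq.mp (by
      have := hq k k.2
      rw [quotAct_mk] at this
      exact this.symm)
    let c : K → N := fun k => ⟨_, hmem k⟩
    let ψ : K →* MulAut N := (restrictAct φ N hN).comp K.subtype
    have hcc : ∀ j k : K, c (j * k) = c j * ψ j (c k) := fun j k => Subtype.ext (by
      show a⁻¹ * φ ((j : G) * k) a = a⁻¹ * φ j a * φ j (a⁻¹ * φ k a)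
      rw [map_mul φ, MulAut.mul_apply, map_mul (φ j), map_inv (φ j)]; group)
    obtain ⟨m, hm⟩ : ∃ m : ℕ, ∀ x : N, x ^ (Nat.card K * m) = x := by
      rcases Nat.lt_or_ge 1 (Nat.card N) with h1 | h1
      · obtain ⟨m, -, hm⟩ := Nat.exists_mul_mod_eq_one_of_coprime hcop.symm h1
        exact ⟨m, fun x => by
          rw [pow_eq_pow_mod _ (pow_card_eq_one' (x := x)), hm, pow_one]⟩
      · haveI : Subsingleton N := (Nat.card_eq_one_iff_unique.mp (le_antisymm h1 Nat.card_pos)).1
        exact ⟨0, fun x => Subsingleton.elim _ _⟩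
    let s : N := ∏ k : K, c k
    have hs : ∀ j : K, s = c j ^ Nat.card K * ψ j s := by
      intro j
      simp only [s, map_prod, Nat.card_eq_fintype_card]
      rw [← Finset.card_univ, ← Finset.prod_const, ← Finset.prod_mul_distrib]
      refine (Fintype.prod_equiv (Equiv.mulLeft j) _ _ fun k => ?_).symm
      exact (hcc j k).symm
    have hfix : ∀ k ∈ K, φ k (a * (s ^ m : N)) = a * (s ^ m : N) := by
      intro k hk
      have h2 : (s ^ m : N) = c ⟨k, hk⟩ * ψ ⟨k, hk⟩ (s ^ m) := by
        conv_lhs => rw [hs ⟨k, hk⟩, mul_pow, ← pow_mul, hm]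
        rw [map_pow]
      have h3 := congrArg Subtype.val h2
      simp only [Subgroup.coe_mul] at h3
      rw [map_mul]
      conv_rhs => rw [h3]
      show φ k a * φ k ((s ^ m : N) : A) = a * (a⁻¹ * φ k a * φ k ((s ^ m : N) : A))
      group
    refine ⟨⟨a * (s ^ m : N), hfix⟩, Subtype.ext ?_⟩
    show (QuotientGroup.mk (a * ((s ^ m : N) : A)) : A ⧸ N) = QuotientGroup.mk a
    rw [QuotientGroup.mk_mul_of_mem _ (SetLike.coe_mem _)]
  rw [← Subgroup.card_mul_index f.ker, Subgroup.index_ker, MonoidHom.range_eq_top.mpr hsurj, Subgroup.card_top]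
  congr 1
  refine Nat.card_congr
    { toFun := fun x => ⟨⟨x.1.1, (QuotientGroup.eq_one_iff _).mp (congrArg Subtype.val x.2)⟩,
        fun k hk => Subtype.ext (x.1.2 k hk)⟩
      invFun := fun x => ⟨⟨x.1.1, fun k hk => congrArg Subtype.val (x.2 k hk)⟩,
        Subtype.ext ((QuotientGroup.eq_one_iff _).mpr x.1.2)⟩
      left_inv := fun x => rfl
      right_inv := fun x => rfl }

theorem exists_elementary [Finite A] [Nontrivial A] (hsolv : Group.IsSolvable A) :
    ∃ (p : ℕ) (N : Subgroup A), p.Prime ∧ N ≠ ⊥ ∧ N.Characteristic ∧ (∀ a ∈ N, a ^ p = 1) ∧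
      ∀ a ∈ N, ∀ b ∈ N, a * b = b * a := by
  classical
  obtain ⟨k, hk⟩ := hsolv.solvable
  have hex : ∃ k, derivedSeries A k = ⊥ := ⟨k, hk⟩
  set k₀ := Nat.find hex with hk₀
  have hk0 : k₀ ≠ 0 := fun h => by
    have := Nat.find_spec hex
    rw [← hk₀, h, derivedSeries_zero] at this
    exact top_ne_bot this
  set D := derivedSeries A (k₀ - 1)
  have hD : D ≠ ⊥ := Nat.find_min hex (by omega)
  have hDc : ⁅D, D⁆ = ⊥ := by
    rw [← derivedSeries_succ, show k₀ - 1 + 1 = k₀ by omega]; exact Nat.find_spec hex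
  haveI : D.Characteristic := derivedSeries_characteristic A _
  have hcomm : ∀ a ∈ D, ∀ b ∈ D, a * b = b * a := fun a ha b hb =>
    Subgroup.mem_centralizer_iff.mp (Subgroup.commutator_eq_bot_iff_le_centralizer.mp hDc hb) a ha
  set p := (Nat.card D).minFac
  have hp : p.Prime := Nat.minFac_prime fun h => hD (D.eq_bot_of_card_eq h)
  let N : Subgroup A :=
    { carrier := {a | a ∈ D ∧ a ^ p = 1}
      one_mem' := ⟨one_mem D, one_pow _⟩
      mul_mem' := fun {a b} ha hb => ⟨mul_mem ha.1 hb.1, by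
        rw [Commute.mul_pow (hcomm a ha.1 b hb.1), ha.2, hb.2, one_mul]⟩
      inv_mem' := fun {a} ha => ⟨inv_mem ha.1, by rw [inv_pow, ha.2, inv_one]⟩ }
  refine ⟨p, N, hp, ?_, ?_, fun a ha => ha.2, fun a ha b hb => hcomm a ha.1 b hb.1⟩
  · haveI := Fact.mk hp
    obtain ⟨x, hx⟩ := exists_prime_orderOf_dvd_card' (G := D) p (Nat.minFac_dvd _)
    intro h
    have hmem : (x : A) ∈ N := ⟨x.2, by
      have := pow_orderOf_eq_one x
      rw [hx] at this
      exact congrArg Subtype.val this⟩
    rw [h, Subgroup.mem_bot] at hmem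
    rw [show x = 1 from Subtype.ext hmem, orderOf_one] at hx
    exact hp.one_lt.ne hx
  · refine Subgroup.characteristic_iff_map_le.mpr fun φ => ?_
    rintro _ ⟨a, ⟨haD, hap⟩, rfl⟩
    exact ⟨(Subgroup.characteristic_iff_map_le.mp inferInstance φ) ⟨a, haD, rfl⟩,
      by rw [← map_pow, hap, map_one]⟩

/-- The fixed point formula. -/
theorem formula [Finite G] {U E : Subgroup G} (h : FrobData U E) (φ : G →* MulAut A) [Finite A]
    (hsolv : Group.IsSolvable A) (hcop : (Nat.card A).Coprime (Nat.card G)) :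
    Nat.card (fixBy φ ⊤) ^ Nat.card E * Nat.card A =
      Nat.card (fixBy φ E) ^ Nat.card E * Nat.card (fixBy φ U) := by
  induction hn : Nat.card A using Nat.strong_induction_on generalizing A with
  | _ n ih =>
    subst hn
    rcases subsingleton_or_nontrivial A with hA | hA
    · have hone : ∀ S : Subgroup A, Nat.card S = 1 := fun S =>
        Nat.card_eq_one_iff_unique.mpr ⟨inferInstance, ⟨1⟩⟩
      have hA1 : Nat.card A = 1 := Nat.card_eq_one_iff_unique.mpr ⟨hA, ⟨1⟩⟩
      rw [hone, hone, hone, hA1]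
    obtain ⟨p, N, hp, hNne, hNchar, hNp, hNc⟩ := exists_elementary hsolv
    haveI := hNchar
    haveI := Fact.mk hp
    have hN : ∀ g, ∀ a ∈ N, φ g a ∈ N := fun g a ha =>
      Subgroup.characteristic_iff_map_le.mp hNchar (φ g) ⟨a, ha, rfl⟩
    haveI : IsMulCommutative N := ⟨⟨fun a b => Subtype.ext (hNc a a.2 b b.2)⟩⟩
    have hdvd : Nat.card N ∣ Nat.card A := Subgroup.card_subgroup_dvd_card N
    have hpc : (Nat.card G).Coprime p := by
      haveI : Nontrivial N := (Subgroup.nontrivial_iff_ne_bot N).mpr hNne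
      obtain ⟨x, hx⟩ := exists_ne (1 : N)
      have hx' : orderOf x = p := orderOf_eq_prime (Subtype.ext (hNp x x.2)) hx
      exact (hcop.coprime_dvd_left ((hx' ▸ orderOf_dvd_natCard x : p ∣ Nat.card N).trans hdvd)).symm
    have hq : ∀ K : Subgroup G, Nat.card (fixBy φ K) =
        Nat.card (fixBy (restrictAct φ N hN) K) * Nat.card (fixBy (quotAct φ N hN) K) := fun K =>
      card_fixBy_quot φ N hN K ((hcop.coprime_dvd_left hdvd).coprime_dvd_right (Subgroup.card_subgroup_dvd_card K))
    have hlt : Nat.card (A ⧸ N) < Nat.card A := by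
      rw [Subgroup.card_eq_card_quotient_mul_card_subgroup N]
      exact lt_mul_of_one_lt_right Nat.card_pos ((Subgroup.one_lt_card_iff_ne_bot N).mpr hNne)
    have h1 := ih (Nat.card (A ⧸ N)) hlt (quotAct φ N hN) inferInstance
      (hcop.coprime_dvd_left (Subgroup.card_quotient_dvd_card N)) rfl
    have h2 := elementary_formula h (A := N) (fun a => Subtype.ext (hNp a a.2)) hpc (restrictAct φ N hN)
    have hA' : Nat.card A = Nat.card N * Nat.card (A ⧸ N) := by
      rw [mul_comm]; exact Subgroup.card_eq_card_quotient_mul_card_subgroup N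
    rw [hq, hq, hq, hA', mul_pow, mul_pow]
    linear_combination congrArg₂ (· * ·) h2 h1

end Cfsg.Agent.FixedFormula
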