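import Cfsg.Agent.EqLemmas

/-!
Lifting representations of `p'`-groups from `ZMod p` to `ZMod (p ^ N)`.

* `exists_lift` : a representation of a group of order prime to `p` lifts (Schur–Zassenhaus)
* `trace_idem` : the trace of an idempotent over `ZMod (p ^ N)` is the rank of its reduction
* `exists_trace_fun` : a class function `T` with `∑_{k ∈ K} T k = |K| · r`, `p ^ r` fixed vectors
-/
set_option autoImplicit false

namespace Cfsg.Agent.FixedFormula

open Matrix

variable {p : ℕ} [hp : Fact p.Prime] {N : ℕ}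

/-- Reduction modulo `p`. -/
noncomputable def red (hN : N ≠ 0) : ZMod (p ^ N) →+* ZMod p :=
  ZMod.castHom (dvd_pow_self p hN) (ZMod p)

theorem red_surjective (hN : N ≠ 0) : Function.Surjective (red (p := p) hN) :=
  ZMod.castHom_surjective (dvd_pow_self p hN)

theorem isUnit_of_red (hN : N ≠ 0) {x : ZMod (p ^ N)} (h : IsUnit (red hN x)) : IsUnit x := by
  haveI : NeZero (p ^ N) := ⟨pow_ne_zero _ hp.out.ne_zero⟩
  obtain ⟨a, rfl⟩ := ZMod.natCast_zmod_surjective x
  rw [map_natCast, ZMod.isUnit_iff_coprime] at h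
  rw [ZMod.isUnit_iff_coprime]
  exact h.pow_right N

theorem isUnit_matrix (hN : N ≠ 0) {n : Type*} [Fintype n] [DecidableEq n]
    {M : Matrix n n (ZMod (p ^ N))} (h : IsUnit ((red hN).mapMatrix M)) : IsUnit M := by
  rw [Matrix.isUnit_iff_isUnit_det] at h ⊢
  rw [← RingHom.map_det] at h
  exact isUnit_of_red hN h

theorem matrix_surjective (hN : N ≠ 0) {m n : Type*} (A : Matrix m n (ZMod p)) :
    ∃ B : Matrix m n (ZMod (p ^ N)), B.map (red hN) = A := by
  choose f hf using fun i j => red_surjective hN (A i j)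
  exact ⟨Matrix.of f, Matrix.ext fun i j => hf i j⟩

/-- A representation of a group of order prime to `p` lifts. -/
theorem exists_lift (hN : N ≠ 0) {G : Type*} [Group G] [Finite G] (hG : (Nat.card G).Coprime p)
    {n : ℕ} (ρ : G →* (Matrix (Fin n) (Fin n) (ZMod p))ˣ) :
    ∃ σ : G →* (Matrix (Fin n) (Fin n) (ZMod (p ^ N)))ˣ,
      ∀ g, (red hN).mapMatrix ((σ g : Matrix (Fin n) (Fin n) (ZMod (p ^ N)))) = ρ g := by
  classical
  haveI : NeZero (p ^ N) := ⟨pow_ne_zero _ hp.out.ne_zero⟩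
  let π : (Matrix (Fin n) (Fin n) (ZMod (p ^ N)))ˣ →* (Matrix (Fin n) (Fin n) (ZMod p))ˣ :=
    Units.map (red hN).mapMatrix.toMonoidHom
  have hπ : Function.Surjective π := by
    intro u
    obtain ⟨B, hB⟩ := matrix_surjective hN (u : Matrix (Fin n) (Fin n) (ZMod p))
    have hu : IsUnit B := isUnit_matrix hN (by
      rw [RingHom.mapMatrix_apply, hB]; exact u.isUnit)
    exact ⟨hu.unit, Units.ext hB⟩
  -- the kernel is a `p`-group
  have hker : IsPGroup p π.ker := by
    let Ka := ((red (p := p) hN).mapMatrix : Matrix (Fin n) (Fin n) (ZMod (p ^ N)) →+* _).toAddMonoidHom.ker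
    have hKa : IsPGroup p (Multiplicative Ka) := fun x => ⟨N, Multiplicative.toAdd.injective (by
      rw [toAdd_pow, toAdd_one]
      apply Subtype.ext
      refine Matrix.ext fun i j => ?_
      rw [AddSubgroupClass.coe_nsmul, Matrix.smul_apply, nsmul_eq_mul, ZMod.natCast_self, zero_mul]
      rfl)⟩
    obtain ⟨k, hk⟩ := IsPGroup.iff_card.mp hKa
    refine IsPGroup.iff_card.mpr ⟨k, ?_⟩
    rw [← hk, Nat.card_congr (Multiplicative.toAdd (α := Ka))]
    refine Nat.card_eq_of_bijective (fun u => (⟨((u : (Matrix (Fin n) (Fin n) (ZMod (p ^ N)))ˣ) :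
      Matrix (Fin n) (Fin n) (ZMod (p ^ N))) - 1, ?_⟩ : Ka)) ⟨?_, ?_⟩
    · show (red hN).mapMatrix _ = 0
      rw [map_sub, map_one, sub_eq_zero]
      exact congrArg Units.val u.2
    · intro u v h
      exact Subtype.ext (Units.ext (sub_left_inj.mp (congrArg Subtype.val h)))
    · rintro ⟨A, hA⟩
      have hA' : (red hN).mapMatrix A = 0 := hA
      have hu : IsUnit (1 + A) := isUnit_matrix hN (by rw [map_add, map_one, hA', add_zero]; exact isUnit_one)
      refine ⟨⟨hu.unit, Units.ext ?_⟩, Subtype.ext (by simp)⟩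
      show (red hN).mapMatrix (1 + A) = 1
      rw [map_add, map_one, hA', add_zero]
  let P : Subgroup (G × (Matrix (Fin n) (Fin n) (ZMod (p ^ N)))ˣ) :=
    { carrier := {x | π x.2 = ρ x.1}
      one_mem' := by simp
      mul_mem' := fun {a b} ha hb => by
        simp only [Set.mem_ofPred_eq, Prod.snd_mul, Prod.fst_mul, map_mul] at ha hb ⊢
        rw [ha, hb]
      inv_mem' := fun {a} ha => by
        simp only [Set.mem_ofPred_eq, Prod.snd_inv, Prod.fst_inv, map_inv] at ha ⊢
        rw [ha] }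
  let fst : P →* G := (MonoidHom.fst _ _).comp P.subtype
  have hfst : Function.Surjective fst := fun g => by
    obtain ⟨u, hu⟩ := hπ (ρ g)
    exact ⟨⟨(g, u), hu⟩, rfl⟩
  have hkerP : IsPGroup p fst.ker := by
    intro x
    have hx1 : x.1.1.1 = 1 := x.2
    obtain ⟨k, hk⟩ := hker ⟨x.1.1.2, by
      show π x.1.1.2 = 1
      rw [show π x.1.1.2 = ρ x.1.1.1 from x.1.2, hx1, map_one]⟩
    refine ⟨k, Subtype.ext (Subtype.ext (Prod.ext ?_ ?_))⟩
    · show x.1.1.1 ^ p ^ k = 1
      rw [hx1, one_pow]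
    · exact congrArg Subtype.val hk
  have hindex : fst.ker.index = Nat.card G := by
    rw [Subgroup.index_ker, MonoidHom.range_eq_top.mpr hfst, Subgroup.card_top]
  obtain ⟨k, hk⟩ := IsPGroup.iff_card.mp hkerP
  obtain ⟨C, hC⟩ := Subgroup.exists_right_complement'_of_coprime
    (show Nat.Coprime (Nat.card fst.ker) fst.ker.index by rw [hindex, hk]; exact (hG.symm).pow_left k)
  have hbij : Function.Bijective (fst.comp C.subtype) := by
    refine ⟨(injective_iff_map_eq_one _).mpr fun x hx => Subtype.ext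
      (Subgroup.disjoint_def.mp hC.disjoint (show (x : P) ∈ fst.ker from hx) x.2), fun g => ?_⟩
    obtain ⟨q, rfl⟩ := hfst g
    obtain ⟨⟨a, c⟩, hac⟩ := hC.2 q
    refine ⟨c, ?_⟩
    show fst c = fst q
    rw [← hac, map_mul, MonoidHom.mem_ker.mp a.2, one_mul]
  let e := MulEquiv.ofBijective (fst.comp C.subtype) hbij
  refine ⟨((MonoidHom.snd _ _).comp P.subtype).comp (C.subtype.comp e.symm.toMonoidHom), fun g => ?_⟩
  have h1 : π ((e.symm g : C) : P).1.2 = ρ ((e.symm g : C) : P).1.1 := ((e.symm g : C) : P).2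
  have h2 : ((e.symm g : C) : P).1.1 = g := e.apply_symm_apply g
  rw [h2] at h1
  exact congrArg Units.val h1

/-- The trace of an idempotent is the rank of its reduction. -/
theorem trace_idem (hN : N ≠ 0) {n : ℕ} {e : Matrix (Fin n) (Fin n) (ZMod (p ^ N))} (he : e * e = e) :
    e.trace = (Module.finrank (ZMod p) (LinearMap.range (Matrix.toLin' ((red hN).mapMatrix e))) : ZMod (p ^ N)) := by
  classical
  set E := (red hN).mapMatrix e with hEdef
  set T := Matrix.toLin' E
  set r := Module.finrank (ZMod p) (LinearMap.range T)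
  let b : (LinearMap.range T) ≃ₗ[ZMod p] (Fin r → ZMod p) := (Module.finBasis (ZMod p) _).equivFun
  let ι : (Fin r → ZMod p) →ₗ[ZMod p] (Fin n → ZMod p) := (LinearMap.range T).subtype ∘ₗ b.symm.toLinearMap
  let π : (Fin n → ZMod p) →ₗ[ZMod p] (Fin r → ZMod p) := b.toLinearMap ∘ₗ T.rangeRestrict
  have hTT : ∀ v, T (T v) = T v := fun v => by
    rw [← LinearMap.comp_apply, ← Matrix.toLin'_mul, hEdef, ← map_mul, he]
  have hπι : π ∘ₗ ι = LinearMap.id := by
    refine LinearMap.ext fun v => ?_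
    show b (T.rangeRestrict (b.symm v : Fin n → ZMod p)) = v
    obtain ⟨w, hw⟩ := (b.symm v).2
    have : T.rangeRestrict (b.symm v : Fin n → ZMod p) = b.symm v := Subtype.ext (by
      show T (b.symm v : Fin n → ZMod p) = b.symm v
      rw [← hw, hTT])
    rw [this, LinearEquiv.apply_symm_apply]
  have hιπ : ι ∘ₗ π = T := LinearMap.ext fun v => by
    show ((b.symm (b (T.rangeRestrict v)) : LinearMap.range T) : Fin n → ZMod p) = T v
    rw [LinearEquiv.symm_apply_apply]; rfl
  have h1 : LinearMap.toMatrix' π * LinearMap.toMatrix' ι = 1 := by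
    rw [← LinearMap.toMatrix'_comp, hπι, LinearMap.toMatrix'_id]
  have h2 : LinearMap.toMatrix' ι * LinearMap.toMatrix' π = E := by
    rw [← LinearMap.toMatrix'_comp, hιπ, LinearMap.toMatrix'_toLin']
  obtain ⟨A, hA⟩ := matrix_surjective hN (LinearMap.toMatrix' ι)
  obtain ⟨B₀, hB₀⟩ := matrix_surjective hN (LinearMap.toMatrix' π)
  have hBA : IsUnit (B₀ * A) := isUnit_matrix hN (by
    rw [RingHom.mapMatrix_apply, Matrix.map_mul, hA, hB₀, h1]; exact isUnit_one)
  obtain ⟨u, hu⟩ := hBA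
  set B := (↑u⁻¹ : Matrix (Fin r) (Fin r) (ZMod (p ^ N))) * B₀ with hBdef
  have hBA1 : B * A = 1 := by rw [hBdef, Matrix.mul_assoc, ← hu, Units.inv_mul]
  have hBred : B.map (red hN) = LinearMap.toMatrix' π := by
    have hu1 : (red hN).mapMatrix (u : Matrix (Fin r) (Fin r) (ZMod (p ^ N))) = 1 := by
      rw [hu, RingHom.mapMatrix_apply, Matrix.map_mul, hA, hB₀, h1]
    have hu2 : (red hN).mapMatrix (↑u⁻¹ : Matrix (Fin r) (Fin r) (ZMod (p ^ N))) = 1 := by
      have := congrArg (red hN).mapMatrix u.inv_mul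
      rwa [map_mul, hu1, mul_one, map_one] at this
    rw [hBdef, Matrix.map_mul, ← RingHom.mapMatrix_apply, hu2, Matrix.one_mul, hB₀]
  set f := A * B with hfdef
  have hf : f * f = f := by
    rw [hfdef, Matrix.mul_assoc, ← Matrix.mul_assoc B A B, hBA1, Matrix.one_mul]
  have hfE : (red hN).mapMatrix f = E := by
    rw [RingHom.mapMatrix_apply, hfdef, Matrix.map_mul, hA, hBred, h2]
  have hU : IsUnit (e * f + (1 - e) * (1 - f)) := isUnit_matrix hN (by
    have hEE : E * E = E := by rw [hEdef, ← map_mul, he]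
    simp only [map_add, map_mul, map_sub, map_one, hfE, ← hEdef]
    rw [hEE, sub_mul, one_mul, mul_sub, mul_one, hEE, sub_self, sub_zero, add_sub_cancel]
    exact isUnit_one)
  obtain ⟨v, hv⟩ := hU
  have hconj : e * (v : Matrix (Fin n) (Fin n) (ZMod (p ^ N))) = v * f := by
    rw [hv]
    have l1 : e * (e * f + (1 - e) * (1 - f)) = e * f := by
      rw [mul_add, ← mul_assoc, he, ← mul_assoc e (1 - e), mul_sub e 1 e, mul_one, he, sub_self, zero_mul, add_zero]
    have l2 : (e * f + (1 - e) * (1 - f)) * f = e * f := by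
      rw [add_mul, mul_assoc, hf, mul_assoc, sub_mul (1 : Matrix (Fin n) (Fin n) (ZMod (p ^ N))) f f,
        one_mul, hf, sub_self, mul_zero, add_zero]
    rw [l1, l2]
  calc e.trace = ((v : Matrix (Fin n) (Fin n) (ZMod (p ^ N))) * f *
        (↑v⁻¹ : Matrix (Fin n) (Fin n) (ZMod (p ^ N)))).trace := by
        rw [← hconj, Matrix.mul_assoc, Units.mul_inv, Matrix.mul_one]
    _ = f.trace := Matrix.trace_units_conj v f
    _ = (B * A).trace := by rw [hfdef, Matrix.trace_mul_comm]
    _ = (r : ZMod (p ^ N)) := by rw [hBA1, Matrix.trace_one, Fintype.card_fin]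

open Classical in
/-- A class function carrying all fixed space dimensions. -/
theorem exists_trace_fun (hN : N ≠ 0) {G : Type*} [Group G] [Fintype G] (hG : (Nat.card G).Coprime p)
    {n : ℕ} (ρ : G →* (Matrix (Fin n) (Fin n) (ZMod p))ˣ) :
    ∃ T : G → ZMod (p ^ N), (∀ x y, T (y * x * y⁻¹) = T x) ∧ T 1 = n ∧
      ∀ K : Subgroup G, ∃ r : ℕ, r ≤ n ∧
        Nat.card {v : Fin n → ZMod p // ∀ k ∈ K, (ρ k : Matrix (Fin n) (Fin n) (ZMod p)) *ᵥ v = v} = p ^ r ∧
        ∑ k : K, T k = (Nat.card K : ZMod (p ^ N)) * r := by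
  obtain ⟨σ, hσ⟩ := exists_lift hN hG ρ
  refine ⟨fun g => (σ g : Matrix (Fin n) (Fin n) (ZMod (p ^ N))).trace, fun x y => ?_, ?_, fun K => ?_⟩
  · simp only [map_mul, map_inv, Units.val_mul]
    exact Matrix.trace_units_conj (σ y) _
  · simp [Matrix.trace_one]
  have hKc : (Nat.card K).Coprime p := hG.coprime_dvd_left (Subgroup.card_subgroup_dvd_card K)
  have hcR : IsUnit ((Nat.card K : ℕ) : ZMod (p ^ N)) := (ZMod.isUnit_iff_coprime _ _).mpr (hKc.pow_right N)
  obtain ⟨c, hc⟩ := hcR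
  set S : Matrix (Fin n) (Fin n) (ZMod (p ^ N)) :=
    ∑ k : K, (σ k : Matrix (Fin n) (Fin n) (ZMod (p ^ N))) with hS
  set e := (↑c⁻¹ : ZMod (p ^ N)) • S with hedef
  have hjS : ∀ j : K, (σ j : Matrix (Fin n) (Fin n) (ZMod (p ^ N))) * S = S := by
    intro j
    rw [hS, Finset.mul_sum]
    exact Fintype.sum_equiv (Equiv.mulLeft j) _ _ fun k => by simp
  have hSS : S * S = (Nat.card K : ZMod (p ^ N)) • S := by
    conv_lhs => arg 1; rw [hS]
    rw [Finset.sum_mul, Finset.sum_congr rfl fun j _ => hjS j, Finset.sum_const, Finset.card_univ,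
      Nat.card_eq_fintype_card, ← Nat.cast_smul_eq_nsmul (ZMod (p ^ N))]
  have he : e * e = e := by
    rw [hedef, Matrix.smul_mul, Matrix.mul_smul, smul_smul, hSS, smul_smul, ← hc, mul_assoc, Units.inv_mul, mul_one]
  set E := (red hN).mapMatrix e with hE
  set cF := red hN (↑c⁻¹ : ZMod (p ^ N))
  have hcF : cF * (Nat.card K : ZMod p) = 1 := by
    rw [← map_natCast (red hN), ← map_mul, ← hc, Units.inv_mul, map_one]
  have hEv : ∀ v, E *ᵥ v = cF • ∑ k : K, (ρ k : Matrix (Fin n) (Fin n) (ZMod p)) *ᵥ v := by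
    intro v
    rw [hE, hedef, RingHom.mapMatrix_apply, Matrix.map_smul' _ _ _ (map_mul _), Matrix.smul_mulVec, hS,
      ← RingHom.mapMatrix_apply, map_sum]
    simp only [hσ]
    rw [Matrix.sum_mulVec]
  set r := Module.finrank (ZMod p) (LinearMap.range (Matrix.toLin' E))
  refine ⟨r, (Submodule.finrank_le _).trans (by rw [Module.finrank_fin_fun]), ?_, ?_⟩
  · refine Eq.trans (Nat.card_congr (Equiv.subtypeEquivRight fun v => ?_))
      ((Module.natCard_eq_pow_finrank (K := ZMod p) (V := LinearMap.range (Matrix.toLin' E))).trans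
        (by rw [Nat.card_zmod]))
    rw [LinearMap.mem_range]
    constructor
    · intro h
      refine ⟨v, ?_⟩
      rw [Matrix.toLin'_apply, hEv, Finset.sum_congr rfl fun (k : K) _ => h k k.2, Finset.sum_const,
        Finset.card_univ, ← Nat.card_eq_fintype_card, ← Nat.cast_smul_eq_nsmul (ZMod p), smul_smul, hcF, one_smul]
    · rintro ⟨w, rfl⟩ k hk
      rw [Matrix.toLin'_apply, hEv, Matrix.mulVec_smul, Matrix.mulVec_sum]
      congr 1
      refine Fintype.sum_equiv (Equiv.mulLeft (⟨k, hk⟩ : K)) _ _ fun j => ?_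
      rw [Matrix.mulVec_mulVec, ← Units.val_mul, ← map_mul]
      rfl
  · have ht := trace_idem hN he
    rw [hedef, Matrix.trace_smul, smul_eq_mul, hS, Matrix.trace_sum, Units.inv_mul_eq_iff_eq_mul, hc] at ht
    exact ht

end Cfsg.Agent.FixedFormula
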